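import Mathlib
import Groth.Agent.FpqcDesc.Stalk
import Groth.Agent.GeomIrred.Scheme

/-! Descent of geometric reducedness and integrality along surjections. -/

set_option autoImplicit false
universe u

open CategoryTheory CategoryTheory.Limits AlgebraicGeometry

noncomputable section

namespace Groth.Agent.GeomRedDesc

/-- A morphism between spectra of fields is flat. -/
theorem flat_spec_field {K L : Type u} [Field K] [Field L] (a : Spec (CommRingCat.of L) ⟶ Spec (CommRingCat.of K)) :
    Flat a := by
  obtain ⟨φ, rfl⟩ := Spec.map_surjective a
  rw [Flat.SpecMap_iff]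
  algebraize [φ.hom]
  show Module.Flat K L
  infer_instance

theorem geometrically_isReduced_of_surjective
    {X Y Y' : Scheme.{u}} (f : X ⟶ Y) (g : Y' ⟶ Y) [Surjective g]
    (h : geometrically IsReduced (pullback.snd f g)) : geometrically IsReduced f := by
  rw [geometrically_iff_of_isClosedUnderIsomorphisms]
  intro L _ y
  obtain ⟨w, -⟩ := (inferInstance : Surjective (pullback.fst y g)).surj (IsLocalRing.closedPoint L)
  let W := pullback y g
  let p : Spec (W.residueField w) ⟶ W := W.fromSpecResidueField w
  let a := p ≫ pullback.fst y g
  let b := p ≫ pullback.snd y g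
  have hab : a ≫ y = b ≫ g := by simp only [a, b, Category.assoc, pullback.condition]
  haveI : Surjective a := ⟨fun z => ⟨IsLocalRing.closedPoint _, Subsingleton.elim (α := PrimeSpectrum L) _ _⟩⟩
  haveI : Flat a := flat_spec_field (K := L) (L := W.residueField w) a
  have hW : IsReduced (pullback f (a ≫ y)) := by
    rw [hab]
    exact ObjectProperty.prop_of_iso IsReduced (pullbackLeftPullbackSndIso f g b)
      (pullback_of_geometrically h (W.residueField w) b)
  let q : pullback f (a ≫ y) ⟶ pullback f y := (pullbackLeftPullbackSndIso f y a).inv ≫ pullback.fst _ _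
  haveI : Flat q := inferInstance
  haveI : Surjective q := inferInstance
  exact FlatDescStalk.isReduced_of_flat_surjective q

theorem geometricallyReduced_of_surjective {X Y Y' : Scheme.{u}} (f : X ⟶ Y) (g : Y' ⟶ Y) [Surjective g]
    [hf : GeometricallyReduced (pullback.snd f g)] : GeometricallyReduced f :=
  ⟨geometrically_isReduced_of_surjective f g hf.geometrically_isReduced⟩

theorem geometricallyIntegral_of_surjective {X Y Y' : Scheme.{u}} (f : X ⟶ Y) (g : Y' ⟶ Y) [Surjective g]
    [hf : GeometricallyIntegral (pullback.snd f g)] : GeometricallyIntegral f := by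
  haveI : GeometricallyReduced f := geometricallyReduced_of_surjective f g
  haveI : GeometricallyIrreducible f := GeomIrred.geometricallyIrreducible_of_surjective f g
  exact GeometricallyIntegral.of_geometricallyReduced_of_geometricallyIrreducible f

end Groth.Agent.GeomRedDesc
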